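import Cfsg.Agent.BpMon.Cube

/-!
# A lower bound for the Sylow subgroup of a centralizer (helper72, after helper41's `BpMon.cube_dvd`)

`cube_dvd_top` : `x`, `v` of order `p` and the involution `z` of `G` commute, `v ∉ ⟨x⟩`, `p ^ 3 ∣ |G|`, not `p ^ 3 ∣ |C(z)|` and
`z` is the only involution of `C(x) ∩ C(v) ∩ C(z)`.  Then `p ^ 3 ∣ |C(x) ∩ C(v)|`.
-/

set_option autoImplicit false

namespace Cfsg.Agent.MSevenT

open Subgroup
open Cfsg.Agent.BpMon

variable {G : Type*} [Group G]

/-- **The bound.** -/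
theorem cube_dvd_top [Finite G] {p : ℕ} (hp : p.Prime) {x v z : G} (hx : orderOf x = p) (hv : orderOf v = p)
    (hz : orderOf z = 2) (hxv : x * v = v * x) (hxz : x * z = z * x) (hvz : v * z = z * v) (hvx : v ∉ zpowers x)
    (h1 : p ^ 3 ∣ Nat.card G) (h2 : ¬ p ^ 3 ∣ Nat.card ↥(centralizer ({z} : Set G)))
    (h4 : ∀ u : G, u * x = x * u → u * v = v * u → u * z = z * u → u * u = 1 → u = 1 ∨ u = z) :
    p ^ 3 ∣ Nat.card ↥(centralizer ({x} : Set G) ⊓ centralizer ({v} : Set G)) := by
  have hpF : Fact p.Prime := ⟨hp⟩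
  have hzz : z * z = 1 := by rw [← pow_two, ← hz, pow_orderOf_eq_one]
  have hz1 : z ≠ 1 := by rintro rfl; rw [orderOf_one] at hz; exact absurd hz (by norm_num)
  -- `S = ⟨x, v⟩`
  set S := zpowers x ⊔ zpowers v with hS
  have hxS : x ∈ S := le_sup_left (a := zpowers x) (mem_zpowers x)
  have hvS : v ∈ S := le_sup_right (a := zpowers x) (mem_zpowers v)
  have hPx : IsPGroup p ↥(zpowers x) := IsPGroup.of_card (n := 1) (by rw [Nat.card_zpowers, hx, pow_one])
  have hPv : IsPGroup p ↥(zpowers v) := IsPGroup.of_card (n := 1) (by rw [Nat.card_zpowers, hv, pow_one])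
  have hSC : ∀ g : G, g * x = x * g → g * v = v * g → ∀ s ∈ S, g * s = s * g := by
    intro g hgx hgv s hs
    have h5 : S ≤ centralizer ({g} : Set G) := by
      rw [hS, sup_le_iff, zpowers_le, zpowers_le]
      exact ⟨mem_centralizer_singleton_iff.2 hgx.symm, mem_centralizer_singleton_iff.2 hgv.symm⟩
    exact (mem_centralizer_singleton_iff.1 (h5 hs)).symm
  have hPS : IsPGroup p ↥S := by
    refine IsPGroup.to_sup_of_normal_right' hPx hPv ?_
    rw [zpowers_le, mem_normalizer_iff]
    intro g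
    constructor
    · intro hg
      obtain ⟨k, rfl⟩ := mem_zpowers_iff.1 hg
      have : x * v ^ k * x⁻¹ = v ^ k := by
        rw [((show Commute x v from hxv).zpow_right k).eq, mul_inv_cancel_right]
      rw [this]; exact hg
    · intro hg
      obtain ⟨k, hk⟩ := mem_zpowers_iff.1 hg
      have h5 : g = x⁻¹ * v ^ k * x := by rw [hk]; group
      have h6 : x⁻¹ * v ^ k * x = v ^ k := by
        rw [mul_assoc, ← ((show Commute x v from hxv).zpow_right k).eq, inv_mul_cancel_left]
      rw [h5, h6]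
      exact zpow_mem (mem_zpowers v) k
  have hS2 : p ^ 2 ∣ Nat.card ↥S := by
    have hne : zpowers x ≠ S := by
      intro h5
      rw [← h5] at hvS
      exact hvx hvS
    obtain ⟨k, hk⟩ := IsPGroup.iff_card.1 hPS
    rw [hk]
    apply pow_dvd_pow
    by_contra hlt
    have hk1 : k ≤ 1 := by omega
    apply hne
    refine eq_of_le_of_card_ge (le_sup_left (a := zpowers x)) ?_
    rw [hk, Nat.card_zpowers, hx]
    calc p ^ k ≤ p ^ 1 := Nat.pow_le_pow_right hp.pos hk1
      _ = p := pow_one p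
  have hS4 : ¬ p ^ 3 ∣ Nat.card ↥S := by
    intro h5
    have h6 : Nat.card ↥S ∣ Nat.card ↥(centralizer ({z} : Set G)) := by
      apply card_dvd_of_le
      intro s hs
      exact mem_centralizer_singleton_iff.2 ((hSC z hxz.symm hvz.symm s hs).symm)
    exact h2 (h5.trans h6)
  -- a Sylow subgroup of `G`
  obtain ⟨R, hR, hSR, hR4⟩ : ∃ R : Subgroup G, IsPGroup p ↥R ∧ S ≤ R ∧ p ^ 3 ∣ Nat.card ↥R := by
    obtain ⟨Q, hQ⟩ := hPS.exists_le_sylow
    exact ⟨Q, Q.isPGroup', hQ, Q.pow_dvd_card_of_pow_dvd_card h1⟩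
  obtain ⟨h, hhR, hhS, hhn⟩ := exists_normalizing hR hSR (by rintro rfl; exact hS4 hR4)
  by_cases hh : h * x = x * h ∧ h * v = v * h
  · -- `S ⟨h⟩`
    obtain ⟨hhx, hhv⟩ := hh
    have hle : S ⊔ zpowers h ≤ R := sup_le hSR (zpowers_le.2 hhR)
    have hPT : IsPGroup p ↥(S ⊔ zpowers h) := hR.to_le hle
    have hT := cube_dvd_of_lt hPT (le_sup_left (a := S)) (fun h5 => hhS (by
      rw [h5]; exact le_sup_right (a := S) (mem_zpowers h))) hS2
    refine hT.trans (card_dvd_of_le ?_)
    refine sup_le (fun s hs => ?_) ?_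
    · exact ⟨mem_centralizer_singleton_iff.2 ((hSC x rfl hxv s hs).symm),
        mem_centralizer_singleton_iff.2 ((hSC v hxv.symm rfl s hs).symm)⟩
    · rw [zpowers_le]
      exact ⟨mem_centralizer_singleton_iff.2 hhx, mem_centralizer_singleton_iff.2 hhv⟩
  · exfalso
    set B := centralizer ({x} : Set G) ⊓ centralizer ({v} : Set G) with hB
    have hBS : ∀ g ∈ B, ∀ s ∈ S, g * s = s * g := fun g hg =>
      hSC g (mem_centralizer_singleton_iff.1 hg.1) (mem_centralizer_singleton_iff.1 hg.2)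
    have hzB : z ∈ B := ⟨mem_centralizer_singleton_iff.2 hxz.symm, mem_centralizer_singleton_iff.2 hvz.symm⟩
    -- `h` normalises `B`
    have hhB : ∀ g ∈ B, h * g * h⁻¹ ∈ B := by
      intro g hg
      have key : ∀ s ∈ S, h * g * h⁻¹ * s = s * (h * g * h⁻¹) := by
        intro s hs
        have h5 : h⁻¹ * s * h ∈ S := by
          rw [hhn]
          have : h * (h⁻¹ * s * h) * h⁻¹ = s := by group
          rwa [this]
        calc h * g * h⁻¹ * s = h * (g * (h⁻¹ * s * h)) * h⁻¹ := by group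
          _ = h * ((h⁻¹ * s * h) * g) * h⁻¹ := by rw [hBS g hg _ h5]
          _ = s * (h * g * h⁻¹) := by group
      exact ⟨mem_centralizer_singleton_iff.2 (key x hxS), mem_centralizer_singleton_iff.2 (key v hvS)⟩
    obtain ⟨b, hbB, hb⟩ := conj_of_unique (B := B) (z := z) (z' := h * z * h⁻¹) hzB (hhB z hzB) hzz hz1
      (by rw [show h * z * h⁻¹ * (h * z * h⁻¹) = h * (z * z) * h⁻¹ by group, hzz]; group)
      (by
        intro h5
        apply hz1
        calc z = h⁻¹ * (h * z * h⁻¹) * h := by group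
          _ = 1 := by rw [h5]; group)
      (fun u hu hc huu => h4 u (mem_centralizer_singleton_iff.1 hu.1) (mem_centralizer_singleton_iff.1 hu.2) hc huu)
    -- `h' = b⁻¹ h`
    set h' := b⁻¹ * h with hh'
    have hh'z : h' * z = z * h' := by
      have h5 : b * z * b⁻¹ = h * z * h⁻¹ := hb
      calc h' * z = b⁻¹ * (h * z * h⁻¹) * h := by rw [hh']; group
        _ = b⁻¹ * (b * z * b⁻¹) * h := by rw [h5]
        _ = z * h' := by rw [hh']; group
    have hact : ∀ s ∈ S, h' * s * h'⁻¹ = h * s * h⁻¹ := by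
      intro s hs
      have h5 := hBS b hbB _ ((hhn s).1 hs)
      calc h' * s * h'⁻¹ = b⁻¹ * (h * s * h⁻¹) * b := by rw [hh']; group
        _ = b⁻¹ * (h * s * h⁻¹ * b) := by group
        _ = b⁻¹ * (b * (h * s * h⁻¹)) := by rw [h5]
        _ = h * s * h⁻¹ := by group
    have hpow : ∀ (k : ℕ) (s : G), s ∈ S → h ^ k * s * (h ^ k)⁻¹ ∈ S ∧ h' ^ k * s * (h' ^ k)⁻¹ = h ^ k * s * (h ^ k)⁻¹ := by
      intro k
      induction k with
      | zero => intro s hs; simpa using hs
      | succ k ih =>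
        intro s hs
        obtain ⟨i1, i2⟩ := ih s hs
        constructor
        · have : h ^ (k + 1) * s * (h ^ (k + 1))⁻¹ = h * (h ^ k * s * (h ^ k)⁻¹) * h⁻¹ := by
            rw [pow_succ']; group
          rw [this]
          exact (hhn _).1 i1
        · calc h' ^ (k + 1) * s * (h' ^ (k + 1))⁻¹ = h' * (h' ^ k * s * (h' ^ k)⁻¹) * h'⁻¹ := by
                rw [pow_succ']; group
            _ = h' * (h ^ k * s * (h ^ k)⁻¹) * h'⁻¹ := by rw [i2]
            _ = h * (h ^ k * s * (h ^ k)⁻¹) * h⁻¹ := hact _ i1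
            _ = h ^ (k + 1) * s * (h ^ (k + 1))⁻¹ := by rw [pow_succ']; group
    -- the `p`-part of `h'`
    have hn0 : orderOf h' ≠ 0 := (orderOf_pos h').ne'
    obtain ⟨a, m, hm, ham⟩ := Nat.exists_eq_pow_mul_and_not_dvd hn0 p hp.ne_one
    obtain ⟨e, he⟩ := hR ⟨h, hhR⟩
    have he' : h ^ p ^ e = 1 := congrArg Subtype.val he
    set k' := h' ^ m with hk'
    have hk'p : k' ^ p ^ a = 1 := by
      rw [hk', ← pow_mul, mul_comm, ← ham, pow_orderOf_eq_one]
    have hcop : Nat.Coprime m (orderOf h) := by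
      have h7 : orderOf h ∣ p ^ e := orderOf_dvd_of_pow_eq_one he'
      exact Nat.Coprime.coprime_dvd_right h7 (Nat.Coprime.pow_right e ((hp.coprime_iff_not_dvd.2 hm).symm))
    have hcomm : ∀ s ∈ S, k' * s * k'⁻¹ = s → h * s = s * h := by
      intro s hs h5
      rw [hk', (hpow m s hs).2] at h5
      have h6 : Commute (h ^ m) s := mul_inv_eq_iff_eq_mul.1 h5
      obtain ⟨u, hu⟩ := exists_pow_eq_self_of_coprime hcop
      have h8 : Commute ((h ^ m) ^ u) s := h6.pow_left u
      rw [hu] at h8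
      exact h8
    have hk'S : k' ∉ S := fun h5 => hh ⟨hcomm x hxS (by rw [hSC x rfl hxv k' h5 |>.symm, mul_inv_cancel_right]),
      hcomm v hvS (by rw [hSC v hxv.symm rfl k' h5 |>.symm, mul_inv_cancel_right])⟩
    have hk'z : k' * z = z * k' := ((show Commute h' z from hh'z).pow_left m)
    have hPk : IsPGroup p ↥(zpowers k') := by
      obtain ⟨j, -, hj⟩ := (Nat.dvd_prime_pow hp).1 (orderOf_dvd_of_pow_eq_one hk'p)
      exact IsPGroup.of_card (n := j) (by rw [Nat.card_zpowers, hj])
    have hPT : IsPGroup p ↥(zpowers k' ⊔ S) := by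
      refine IsPGroup.to_sup_of_normal_right' hPk hPS ?_
      rw [zpowers_le, mem_normalizer_iff]
      have hin : ∀ g ∈ S, k' * g * k'⁻¹ ∈ S := fun g hg => by
        rw [hk', (hpow m g hg).2]; exact (hpow m g hg).1
      intro g
      constructor
      · exact hin g
      · intro hg
        -- `k'` has finite order
        have h5 : ∀ (j : ℕ) (g : G), g ∈ S → k' ^ j * g * (k' ^ j)⁻¹ ∈ S := by
          intro j
          induction j with
          | zero => intro g hg; simpa using hg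
          | succ j ih =>
            intro g hg
            have : k' ^ (j + 1) * g * (k' ^ (j + 1))⁻¹ = k' * (k' ^ j * g * (k' ^ j)⁻¹) * k'⁻¹ := by
              rw [pow_succ']; group
            rw [this]
            exact hin _ (ih g hg)
        have h6 := h5 (orderOf k' - 1) _ hg
        have h7 : k' ^ (orderOf k' - 1) = k'⁻¹ := by
          rw [eq_inv_iff_mul_eq_one, ← pow_succ, Nat.sub_add_cancel (orderOf_pos k'), pow_orderOf_eq_one]
        rw [h7] at h6
        have h8 : k'⁻¹ * (k' * g * k'⁻¹) * k'⁻¹⁻¹ = g := by group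
        rwa [h8] at h6
    have hT := cube_dvd_of_lt hPT (le_sup_right (a := zpowers k')) (fun h5 => hk'S (by
      rw [h5]; exact le_sup_left (a := zpowers k') (mem_zpowers k'))) hS2
    refine h2 (hT.trans (card_dvd_of_le ?_))
    refine sup_le ?_ fun s hs => mem_centralizer_singleton_iff.2 ((hSC z hxz.symm hvz.symm s hs).symm)
    rw [zpowers_le]
    exact mem_centralizer_singleton_iff.2 hk'z

end Cfsg.Agent.MSevenT
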