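import Cfsg.Agent.MSevenT.CubeTop
import Cfsg.Agent.BpRankZero.Seven

/-!
# `7 ^ 2` divides `|C(r) / ⟨r⟩|` for `r` of order 7 and fixed rank 6 (helper72)
-/

set_option autoImplicit false

namespace Cfsg.Agent.MSevenT

open Cfsg Cfsg.Spor Cfsg.Agent.MonsterX.KSide Cfsg.Agent.MonsterX.KLift
open Cfsg.Agent.MonsterU.Lam2 Cfsg.Agent.MonsterU.Ch
open Cfsg.Agent.LeechMat.Core
open Cfsg.Agent.LThreeMB (fr XX Zx Zx_le_center zD KChart.Cent KChart.pi KChart.chart)
open Cfsg.Agent.BpRankZero.Seven (exists_partner not_dvd_cz fr_le_of_mem only_zD card_cent)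
open Subgroup (centralizer zpowers mem_centralizer_singleton_iff mem_zpowers mem_zpowers_iff)

universe u

variable {G : Type u} {V P W : Type*} [Group G] [AddCommGroup V] [Module ℚ V]
  [DistribMulAction G V] [SMulCommClass G ℚ V] [Group P] [AddCommGroup W] [Module ℚ W]
  {M : KS G V P W} {θ : leechLattice → P}

/-- `x` of order 7 and fixed rank 0, `r` of order 7 and fixed rank not 0 in `C(z)`: `7 ^ 3 ∣ |C(r)|` -/
theorem cube_dvd_cent [Finite G] (L : Lift M θ) (hc : LThreeMB.KChart.Cent M) {x r : centralizer ({M.z} : Set G)}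
    (hx : orderOf x = 7) (hfr : fr (LThreeMB.KChart.pi hc x) = 1) (hr : orderOf r = 7)
    (hfr' : fr (LThreeMB.KChart.pi hc r) ≠ 1) (hG : 7 ^ 3 ∣ Nat.card G) :
    7 ^ 3 ∣ Nat.card ↥(centralizer ({(r : G)} : Set G)) := by
  have h := LThreeMB.KChart.chart L hc
  have hp : Nat.Prime 7 := by norm_num
  obtain ⟨g, hg⟩ := exists_partner hp (not_dvd_cz h) hr hx
  set v := g * x * g⁻¹ with hv
  have hov : orderOf v = 7 := by
    rw [← hx, hv]
    exact orderOf_injective (MulAut.conj g).toMonoidHom (MulAut.conj g).injective x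
  have hv7 : v ^ 7 = 1 := by rw [← hov, pow_orderOf_eq_one]
  have hfv : fr (LThreeMB.KChart.pi hc v) = 1 := by
    rw [hv, map_mul, map_mul, map_inv, LThreeMB.fr_conj]
    exact hfr
  have hrv : v ∉ zpowers r := by
    intro hmem
    obtain ⟨i, hi⟩ := mem_zpowers_iff.1 hmem
    have h3 : LThreeMB.KChart.pi hc v ∈ zpowers (LThreeMB.KChart.pi hc r) := by
      rw [mem_zpowers_iff]
      exact ⟨i, by rw [← map_zpow, hi]⟩
    have h5 := fr_le_of_mem h3
    rw [hfv] at h5
    have h6 : 0 < fr (LThreeMB.KChart.pi hc r) := by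
      have : Nonempty {w : L2 // LThreeMB.KChart.pi hc r • w = w} := ⟨⟨0, smul_zero _⟩⟩
      exact Nat.card_pos
    exact hfr' (by omega)
  have hz2 : orderOf M.z = 2 := by
    have := MFive.orderOf_zD h x
    rw [← Subgroup.orderOf_coe] at this
    exact this
  refine (cube_dvd_top (G := G) hp (x := (r : G)) (v := (v : G)) (z := M.z) (by rw [Subgroup.orderOf_coe, hr])
    (by rw [Subgroup.orderOf_coe, hov]) hz2 (congrArg Subtype.val hg) (mem_centralizer_singleton_iff.1 r.2)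
    (mem_centralizer_singleton_iff.1 v.2) ?_ hG (not_dvd_cz h) ?_).trans
    (Subgroup.card_dvd_of_le inf_le_left)
  · intro hmem
    obtain ⟨i, hi⟩ := mem_zpowers_iff.1 hmem
    exact hrv (mem_zpowers_iff.2 ⟨i, Subtype.ext (by rw [← hi]; rfl)⟩)
  · intro u _ huv huz huu
    have hux' : u ∈ centralizer ({(v : G)} : Set G) := mem_centralizer_singleton_iff.2 huv
    rcases only_zD L hc hv7 hfv ⟨u, hux'⟩ (Subtype.ext huu) (Subtype.ext huz) with h5 | h5
    · exact Or.inl (congrArg Subtype.val h5)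
    · exact Or.inr (congrArg Subtype.val h5)

/-- **`7 ^ 2 ∣ |C(r) / ⟨r⟩|`.** -/
theorem sq_dvd_XX [Finite G] (L : Lift M θ) (hc : LThreeMB.KChart.Cent M) {x r : centralizer ({M.z} : Set G)}
    (hx : orderOf x = 7) (hfr : fr (LThreeMB.KChart.pi hc x) = 1) (hr : orderOf r = 7)
    (hfr' : fr (LThreeMB.KChart.pi hc r) ≠ 1) (hG : 7 ^ 3 ∣ Nat.card G) : 7 ^ 2 ∣ Nat.card (XX (r : G)) := by
  have h1 := cube_dvd_cent L hc hx hfr hr hfr' hG
  rw [card_cent, Subgroup.orderOf_coe, hr, pow_succ] at h1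
  exact Nat.dvd_of_mul_dvd_mul_right (by norm_num) h1

end Cfsg.Agent.MSevenT
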